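import Groth.Agent.SpSepClosed.Alg
import Groth.Agent.SpQS.GoodPt
import Groth.Agent.AlgSpLib.QCompact

/-!
# Separating a closed set from a point after spreading out an etale neighbourhood
-/

set_option autoImplicit false
set_option linter.style.haveILetI false
set_option backward.isDefEq.respectTransparency false

universe u

open CategoryTheory CategoryTheory.Limits AlgebraicGeometry TensorProduct

namespace Groth.Agent.SpSepClosed

open _root_.AlgSp Groth.Agent.AlgSpLib

variable {S : Scheme.{u}}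

/-- charts through a point by spectra -/
theorem exists_spec_chart_at {X : Sp S} (hX : IsAlgSpace X) (x : Points X) :
    ∃ (A : CommRingCat.{u}) (str : Spec A ⟶ S) (a : (yon S).obj (Over.mk str) ⟶ X) (u : Spec A),
      RepWith @Etale a ∧ Points.ofPt a u = x := by
  obtain ⟨U, a, u, hU, ha, hu, -⟩ := SpQS.exists_affine_chart_at hX x
  haveI := hU
  let i : Over.mk (U.left.isoSpec.inv ≫ U.hom) ≅ U := Over.isoMk U.left.isoSpec.symm rfl
  refine ⟨Γ(U.left, ⊤), U.left.isoSpec.inv ≫ U.hom, (yon S).map i.hom ≫ a, U.left.isoSpec.hom u,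
    (repWith_iso_comp_iff ((yon S).map i.hom) _).2 ha, ?_⟩
  rw [ofPt_comp, ← hu]
  congr 1
  show U.left.isoSpec.inv (U.left.isoSpec.hom u) = u
  rw [← Scheme.Hom.comp_apply, Iso.hom_inv_id]
  rfl

/-- covers of quasi-compact spaces by spectra -/
theorem exists_spec_cover {X : Sp S} (hX : IsAlgSpace X) (h : IsQuasiCompactSp X) :
    ∃ (A : CommRingCat.{u}) (str : Spec A ⟶ S) (a : (yon S).obj (Over.mk str) ⟶ X),
      RepWith @Etale a ∧ RepWith @Surjective a := by
  haveI := compactSpace_of_isQuasiCompactSp h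
  obtain ⟨U, a, hU, ha, has⟩ := exists_affine_chart_of_compact hX
  haveI := hU
  let i : Over.mk (U.left.isoSpec.inv ≫ U.hom) ≅ U := Over.isoMk U.left.isoSpec.symm rfl
  exact ⟨Γ(U.left, ⊤), U.left.isoSpec.inv ≫ U.hom, (yon S).map i.hom ≫ a,
    (repWith_iso_comp_iff ((yon S).map i.hom) _).2 ha, (repWith_iso_comp_iff ((yon S).map i.hom) _).2 has⟩

set_option maxHeartbeats 3000000 in
theorem main {X Y Z : AlgSp.Space S} (f : X ⟶ Y) (g : Z ⟶ Y)
    (hf : IsQuasiCompactMor f.hom)
    (P : Sp S) (p₁ : P ⟶ X.obj) (p₂ : P ⟶ Z.obj) (hP : IsPullback p₁ p₂ f.hom g.hom)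
    (z : Points Z.obj) (T : Set (Points P)) (hT : IsClosed T) (hz : z ∉ Points.map p₂ '' T) :
    ∃ (V : Over S) (_ : IsAffine V.left) (e : (yon S).obj V ⟶ Z.obj) (_ : RepWith @Etale e) (v : ↥V.left)
      (_ : Points.map e (Points.schemeEquiv V v) = z)
      (Z' : Over S) (_ : IsAffine Z'.left) (b : (yon S).obj Z' ⟶ Y.obj) (_ : LocP @LocallyOfFinitePresentation b)
      (a : V ⟶ Z') (_ : (yon S).map a ≫ b = e ≫ g.hom),
      ∀ (P' : Sp S) (q₁ : P' ⟶ X.obj) (q₂ : P' ⟶ (yon S).obj Z'), IsPullback q₁ q₂ f.hom b →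
        ∃ T' : Set (Points P'), IsClosed T' ∧
          Points.schemeEquiv Z' (a.left v) ∉ Points.map q₂ '' T' ∧
          ∀ (PV : Sp S) (r₁ : PV ⟶ X.obj) (r₂ : PV ⟶ (yon S).obj V), IsPullback r₁ r₂ f.hom (e ≫ g.hom) →
            ∀ (κ₁ : PV ⟶ P) (κ₂ : PV ⟶ P'), κ₁ ≫ p₁ = r₁ → κ₁ ≫ p₂ = r₂ ≫ e → κ₂ ≫ q₁ = r₁ →
              κ₂ ≫ q₂ = r₂ ≫ (yon S).map a →
                ∀ w : Points PV, Points.map κ₁ w ∈ T → Points.map κ₂ w ∈ T' := by
  classical
  obtain ⟨R, sY, b₀, y₀, hb₀, hy₀⟩ := exists_spec_chart_at Y.property (Points.map g.hom z)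
  have sqZ := IsPullback.of_hasPullback g.hom b₀
  obtain ⟨zc, hzc₁, -⟩ := exists_point_of_isPullback sqZ z (Points.ofScheme (Over.mk sY) y₀) (by
    rw [← hy₀, Points.ofPt_eq_map_ofScheme])
  have hZc : IsAlgSpace (pullback g.hom b₀) :=
    isAlgSpace_of_isPullback_space Y.property Z.property (IsAlgSpace.yon_obj _) sqZ
  obtain ⟨A, sV, cV, v, hcV, hv⟩ := exists_spec_chart_at hZc zc
  let e : (yon S).obj (Over.mk sV) ⟶ Z.obj := cV ≫ pullback.fst g.hom b₀
  have he : RepWith @Etale e := repWith_comp hcV (repWith_baseChange sqZ.flip hb₀)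
  obtain ⟨mV, hmV⟩ := exists_map_eq (cV ≫ pullback.snd g.hom b₀)
  have heg : e ≫ g.hom = (yon S).map mV ≫ b₀ := by
    show (cV ≫ _) ≫ g.hom = _
    rw [Category.assoc, sqZ.w, hmV, Category.assoc]
  have sq₀ := IsPullback.of_hasPullback f.hom b₀
  haveI : CompactSpace (Over.mk sY).left := inferInstanceAs (CompactSpace (Spec R))
  have hX₀ : IsAlgSpace (pullback f.hom b₀) :=
    isAlgSpace_of_isPullback_space Y.property X.property (IsAlgSpace.yon_obj _) sq₀
  obtain ⟨B, sW, cW, hcW, hcWs⟩ := exists_spec_cover hX₀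
    (hf (IsAlgSpace.yon_obj _) (isQuasiCompactSp_yon _) b₀ _ _ sq₀)
  obtain ⟨nW, hnW⟩ := exists_map_eq (cW ≫ pullback.snd f.hom b₀)
  obtain ⟨φ, hφ⟩ := Spec.map_surjective (mV.left : Spec A ⟶ Spec R)
  obtain ⟨ψ, hψ⟩ := Spec.map_surjective (nW.left : Spec B ⟶ Spec R)
  algebraize [φ.hom, ψ.hom]
  -- the product of the charts
  have sqE := isPullback_SpecMap_of_isPushout _ _ _ _ (CommRingCat.isPushout_tensorProduct R B A)
  let E : Over S := Over.mk (Spec.map (CommRingCat.ofHom (S := (B : Type u) ⊗[R] A)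
    Algebra.TensorProduct.includeRight.toRingHom) ≫ sV)
  let eV : E ⟶ Over.mk sV := Over.homMk (Spec.map _) rfl
  have hEW : Spec.map (CommRingCat.ofHom (S := (B : Type u) ⊗[R] A) Algebra.TensorProduct.includeLeftRingHom) ≫
      nW.left = eV.left ≫ mV.left := by
    rw [← hφ, ← hψ]
    exact sqE.w
  let eW : E ⟶ Over.mk sW := Over.homMk (Spec.map (CommRingCat.ofHom (S := (B : Type u) ⊗[R] A)
    Algebra.TensorProduct.includeLeftRingHom)) (by
      show _ ≫ sW = Spec.map _ ≫ sV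
      rw [show sW = nW.left ≫ sY from (Over.w nW).symm, ← Category.assoc, hEW, Category.assoc,
        show mV.left ≫ sY = sV from Over.w mV]
      rfl)
  have hEW' : eW ≫ nW = eV ≫ mV := Over.OverMorphism.ext hEW
  let ξ : (yon S).obj E ⟶ P := hP.lift ((yon S).map eW ≫ cW ≫ pullback.fst f.hom b₀) ((yon S).map eV ≫ e) (by
    rw [Category.assoc, Category.assoc, sq₀.w, ← Category.assoc cW, ← hnW, Category.assoc, heg,
      ← Functor.map_comp_assoc, ← Functor.map_comp_assoc, hEW'])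
  obtain ⟨I, hI⟩ := (PrimeSpectrum.isClosed_iff_zeroLocus_ideal _).1
    (hT.preimage (Points.continuous_ofPt ξ) : IsClosed (Points.ofPt ξ ⁻¹' T))
  have hI' : ∀ q : Spec (CommRingCat.of ((B : Type u) ⊗[R] A)), Points.ofPt ξ q ∈ T ↔ I ≤ q.asIdeal := fun q =>
    (Set.ext_iff.1 hI q).trans (PrimeSpectrum.mem_zeroLocus q (I : Set _))
  obtain ⟨F, i, hi, hiq⟩ := exists_separating I v.asIdeal (fun q hq hqv => hz ⟨_, (hI' q).2 hq, by
    rw [Points.map_ofPt, hP.lift_snd]
    show Points.ofPt ((yon S).map eV ≫ e) _ = z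
    rw [ofPt_comp, show eV.left q = v from PrimeSpectrum.ext hqv]
    show Points.ofPt (cV ≫ pullback.fst g.hom b₀) v = z
    rw [← Points.map_ofPt, hv, hzc₁]⟩)
  -- the finitely presented stage
  let A' : CommRingCat.{u} := CommRingCat.of (MvPolynomial ↥F R)
  let θ : MvPolynomial ↥F R →ₐ[R] A := MvPolynomial.aeval fun a : ↥F => (a : A)
  let χ₀ : Spec A' ⟶ Spec R := Spec.map (CommRingCat.ofHom (algebraMap R (MvPolynomial ↥F R)))
  let Z' : Over S := Over.mk (χ₀ ≫ sY)
  let χ : Z' ⟶ Over.mk sY := Over.homMk χ₀ rfl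
  have hθ : Spec.map (CommRingCat.ofHom θ.toRingHom) ≫ χ₀ = mV.left := by
    rw [← hφ, ← Spec.map_comp]
    congr 1
    ext r
    exact θ.commutes r
  let a : Over.mk sV ⟶ Z' := Over.homMk (Spec.map (CommRingCat.ofHom θ.toRingHom)) (by
    show _ ≫ χ₀ ≫ sY = sV
    rw [← Category.assoc, hθ]
    exact Over.w mV)
  have ha : a ≫ χ = mV := Over.OverMorphism.ext hθ
  have hlfp : LocP @LocallyOfFinitePresentation ((yon S).map χ ≫ b₀) := by
    have hr : RepWith @LocallyOfFinitePresentation ((yon S).map χ ≫ b₀) := repWith_comp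
      ((repWith_yon_iff χ).2 ((HasRingHomProperty.Spec_iff (P := @LocallyOfFinitePresentation)).2
        (RingHom.finitePresentation_algebraMap.2 inferInstance)))
      (repWith_mono (P := @Etale) (Q := @LocallyOfFinitePresentation)
        (fun _ _ g hg => have : Etale g := hg; inferInstance) hb₀)
    exact (locP_iff_repWith etST_lfp Y.property hr.1).2 hr
  refine ⟨Over.mk sV, inferInstanceAs (IsAffine (Spec A)), e, he, v, ?_, Z', inferInstanceAs (IsAffine (Spec A')),
    (yon S).map χ ≫ b₀, hlfp, a, by rw [← Functor.map_comp_assoc, ha, heg], fun P' q₁ q₂ hP' => ?_⟩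
  · show Points.map e (Points.ofScheme _ v) = z
    rw [← Points.ofPt_eq_map_ofScheme]
    show Points.ofPt (cV ≫ pullback.fst g.hom b₀) v = z
    rw [← Points.map_ofPt, hv, hzc₁]
  let Sg : Set (Points P') := {p | ∃ (PV : Sp S) (r₁ : PV ⟶ X.obj) (r₂ : PV ⟶ (yon S).obj (Over.mk sV))
    (κ₁ : PV ⟶ P) (κ₂ : PV ⟶ P'), κ₁ ≫ p₁ = r₁ ∧ κ₁ ≫ p₂ = r₂ ≫ e ∧ κ₂ ≫ q₁ = r₁ ∧
      κ₂ ≫ q₂ = r₂ ≫ (yon S).map a ∧ ∃ w, Points.map κ₁ w ∈ T ∧ Points.map κ₂ w = p}
  refine ⟨closure Sg, isClosed_closure, ?_, fun PV r₁ r₂ _ κ₁ κ₂ h₁ h₂ h₃ h₄ w hw =>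
    subset_closure ⟨PV, r₁, r₂, κ₁, κ₂, h₁, h₂, h₃, h₄, w, hw, rfl⟩⟩
  -- the cover of `P'`
  have sqE' := isPullback_SpecMap_of_isPushout _ _ _ _ (CommRingCat.isPushout_tensorProduct R B (MvPolynomial ↥F R))
  let E' : Over S := Over.mk (Spec.map (CommRingCat.ofHom (S := (B : Type u) ⊗[R] MvPolynomial ↥F R)
    Algebra.TensorProduct.includeRight.toRingHom) ≫ χ₀ ≫ sY)
  let eZ' : E' ⟶ Z' := Over.homMk (Spec.map _) rfl
  have hEW₂ : Spec.map (CommRingCat.ofHom (S := (B : Type u) ⊗[R] MvPolynomial ↥F R)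
      Algebra.TensorProduct.includeLeftRingHom) ≫ nW.left = eZ'.left ≫ χ₀ := by
    rw [← hψ]
    exact sqE'.w
  let eW' : E' ⟶ Over.mk sW := Over.homMk (Spec.map (CommRingCat.ofHom (S := (B : Type u) ⊗[R] MvPolynomial ↥F R)
    Algebra.TensorProduct.includeLeftRingHom)) (by
      show _ ≫ sW = Spec.map _ ≫ χ₀ ≫ sY
      rw [show sW = nW.left ≫ sY from (Over.w nW).symm, ← Category.assoc, hEW₂, Category.assoc]
      rfl)
  have sqE'' : IsPullback ((yon S).map eW') ((yon S).map eZ') ((yon S).map nW) ((yon S).map χ) := by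
    refine isPullback_yon_iff.2 ?_
    show IsPullback eW'.left eZ'.left nW.left χ₀
    rw [← hψ]
    exact sqE'
  let l : P' ⟶ pullback f.hom b₀ := pullback.lift q₁ (q₂ ≫ (yon S).map χ) (by rw [hP'.w, Category.assoc])
  have sqP : IsPullback q₂ l ((yon S).map χ) (pullback.snd f.hom b₀) := by
    refine (IsPullback.of_right ?_ (pullback.lift_snd _ _ _) sq₀).flip
    rw [pullback.lift_fst]
    exact hP'
  let π' : (yon S).obj E' ⟶ P' := sqP.lift ((yon S).map eZ') ((yon S).map eW' ≫ cW) (by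
    rw [Category.assoc, ← hnW]
    exact sqE''.w.symm)
  have sqπ : IsPullback π' ((yon S).map eW') l cW := by
    refine IsPullback.of_right ?_ (sqP.lift_snd _ _ _) sqP
    rw [sqP.lift_fst, ← hnW]
    exact sqE''.flip
  have hπe : RepWith @Etale π' := repWith_baseChange sqπ.flip hcW
  rintro ⟨p', hp', hp'v⟩
  obtain ⟨u, rfl⟩ := ofPt_surjective (repWith_baseChange sqπ.flip hcWs) p'
  have hu : (eZ'.left u : Spec A') = a.left v := by
    apply (Points.schemeEquiv Z').injective
    rw [← hp'v, Points.map_ofPt, sqP.lift_fst]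
    show Points.ofScheme Z' _ = _
    rw [ofScheme_map]
  have hclosed : closure (Points.ofPt π' ⁻¹' Sg) ⊆
      PrimeSpectrum.zeroLocus ({i} : Set ((B : Type u) ⊗[R] MvPolynomial ↥F R)) := by
    refine closure_minimal ?_ (PrimeSpectrum.isClosed_zeroLocus _)
    rintro u₁ ⟨PV, r₁, r₂, κ₁, κ₂, h₁, h₂, h₃, h₄, w, hw, hwu⟩
    obtain ⟨T₁, γ, t₁, rfl⟩ := exists_ofPt w
    rw [Points.map_ofPt] at hw hwu
    obtain ⟨K, α, β, k, ee, hα, hβ⟩ := exists_of_ofPt_eq hwu.symm
    obtain ⟨gV, hgV⟩ := exists_map_eq ((yon S).map β ≫ γ ≫ r₂)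
    have hcomm : (α ≫ eW') ≫ nW = gV ≫ mV := by
      apply (yon S).map_injective
      rw [Functor.map_comp, Functor.map_comp, Functor.map_comp, hgV, ← ha, Functor.map_comp, Category.assoc,
        sqE''.w, ← sqP.lift_fst ((yon S).map eZ') ((yon S).map eW' ≫ cW), Category.assoc]
      show (yon S).map α ≫ π' ≫ q₂ ≫ _ = _
      rw [reassoc_of% ee]
      simp only [Category.assoc]
      rw [reassoc_of% h₄]
    let lL : K.left ⟶ E.left := sqE.lift (α ≫ eW').left gV.left (by
      rw [show Spec.map (CommRingCat.ofHom (algebraMap R B)) = nW.left from hψ,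
        show Spec.map (CommRingCat.ofHom (algebraMap R A)) = mV.left from hφ]
      exact congrArg (fun m => m.left) hcomm)
    let L : K ⟶ E := Over.homMk lL (by
      show lL ≫ Spec.map _ ≫ sV = K.hom
      rw [← Category.assoc, sqE.lift_snd]
      exact Over.w gV)
    have hLW : L ≫ eW = α ≫ eW' := Over.OverMorphism.ext (sqE.lift_fst _ _ _)
    have hLV : L ≫ eV = gV := Over.OverMorphism.ext (sqE.lift_snd _ _ _)
    have hξ : (yon S).map L ≫ ξ = (yon S).map β ≫ γ ≫ κ₁ := by
      apply hP.hom_ext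
      · rw [Category.assoc, hP.lift_fst, ← Functor.map_comp_assoc, hLW, Functor.map_comp, Category.assoc]
        simp only [Category.assoc]
        rw [h₁, ← h₃]
        simp only [← Category.assoc]
        rw [show ((yon S).map β ≫ γ) ≫ κ₂ = (yon S).map α ≫ π' from (Category.assoc _ _ _).trans ee.symm]
        simp only [Category.assoc]
        rw [← pullback.lift_fst q₁ (q₂ ≫ (yon S).map χ) (by rw [hP'.w, Category.assoc])]
        rw [reassoc_of% sqπ.w]
      · rw [Category.assoc, hP.lift_snd, ← Functor.map_comp_assoc, hLV, hgV]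
        simp only [Category.assoc]
        rw [h₂]
    let εr : (B : Type u) ⊗[R] MvPolynomial ↥F R →+* (B : Type u) ⊗[R] A :=
      (Algebra.TensorProduct.map (AlgHom.id R B) θ).toRingHom
    have hLα : lL ≫ Spec.map (CommRingCat.ofHom εr) = α.left := by
      apply sqE'.hom_ext
      · rw [Category.assoc, ← Spec.map_comp]
        have e0 : CommRingCat.ofHom (Algebra.TensorProduct.includeLeftRingHom (R := R) (A := (B : Type u))
            (B := MvPolynomial ↥F R)) ≫ CommRingCat.ofHom εr =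
            CommRingCat.ofHom (Algebra.TensorProduct.includeLeftRingHom (R := R) (A := (B : Type u)) (B := A)) := by
          refine CommRingCat.hom_ext (RingHom.ext fun x => ?_)
          show Algebra.TensorProduct.map (AlgHom.id R B) θ (x ⊗ₜ 1) = x ⊗ₜ[R] (1 : A)
          rw [Algebra.TensorProduct.map_tmul, map_one]
          rfl
        rw [e0]
        exact sqE.lift_fst _ _ _
      · rw [Category.assoc, ← Spec.map_comp]
        have e1 : CommRingCat.ofHom (Algebra.TensorProduct.includeRight (R := R) (A := (B : Type u))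
            (B := MvPolynomial ↥F R)).toRingHom ≫ CommRingCat.ofHom εr =
            CommRingCat.ofHom θ.toRingHom ≫ CommRingCat.ofHom (S := (B : Type u) ⊗[R] A)
              (Algebra.TensorProduct.includeRight (R := R) (A := (B : Type u)) (B := A)).toRingHom := by
          refine CommRingCat.hom_ext (RingHom.ext fun x => ?_)
          show Algebra.TensorProduct.map (AlgHom.id R B) θ (1 ⊗ₜ x) = (1 : B) ⊗ₜ[R] θ x
          rw [Algebra.TensorProduct.map_tmul, map_one]
        rw [e1, Spec.map_comp, ← Category.assoc, sqE.lift_snd]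
        have e2 : gV ≫ a = α ≫ eZ' := (yon S).map_injective (by
          rw [Functor.map_comp, hgV, Functor.map_comp, ← sqP.lift_fst ((yon S).map eZ') ((yon S).map eW' ≫ cW)]
          show _ = (yon S).map α ≫ π' ≫ q₂
          rw [reassoc_of% ee]
          simp only [Category.assoc]
          rw [h₄])
        exact congrArg (fun m => m.left) e2
    have hmem : Points.ofPt ξ (L.left k) ∈ T := by
      rw [← ofPt_comp, hξ, ofPt_comp, hβ]
      exact hw
    have hle := (hI' (lL k)).1 hmem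
    have hu₁ : (u₁ : Spec (CommRingCat.of _)) = Spec.map (CommRingCat.ofHom εr) (lL k) := by
      rw [← hα, ← hLα]
      rfl
    refine (PrimeSpectrum.mem_zeroLocus _ _).2 (Set.singleton_subset_iff.2 ?_)
    rw [hu₁]
    exact hle hi
  have := hclosed ((isOpenMap_ofPt (repWith_universallyOpen_of_etale hπe)).preimage_closure_subset_closure_preimage hp')
  exact hiq u (congrArg PrimeSpectrum.asIdeal hu) (Set.singleton_subset_iff.1 ((PrimeSpectrum.mem_zeroLocus _ _).1 this))

end Groth.Agent.SpSepClosed
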