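import Mathlib

/-!
# Separating a closed set of a tensor product from a fibre at a finitely generated stage
-/

set_option autoImplicit false

universe u

open TensorProduct

namespace Groth.Agent.SpSepClosed

variable {R A B : Type u} [CommRing R] [CommRing A] [CommRing B] [Algebra R A] [Algebra R B]

/-- a finite set of generators through which finitely many tensors lift -/
theorem exists_finset_lift (s : Finset (B ⊗[R] A)) :
    ∃ S : Finset A, ∀ S' : Finset A, S ⊆ S' → ∀ x ∈ s,
      ∃ x' : B ⊗[R] MvPolynomial ↥S' R,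
        Algebra.TensorProduct.map (AlgHom.id R B) (MvPolynomial.aeval fun a : ↥S' => (a : A)) x' = x := by
  classical
  choose F hF using fun x : B ⊗[R] A => TensorProduct.exists_finset x
  refine ⟨s.biUnion fun x => (F x).image Prod.snd, fun S' hS x hx => ?_⟩
  have hmem : ∀ y ∈ F x, y.2 ∈ S' := fun y hy =>
    hS (Finset.mem_biUnion.2 ⟨x, hx, Finset.mem_image_of_mem _ hy⟩)
  refine ⟨(F x).attach.sum fun y => y.1.1 ⊗ₜ MvPolynomial.X ⟨y.1.2, hmem y.1 y.2⟩, ?_⟩
  rw [map_sum]
  refine Eq.trans ?_ (hF x).symm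
  rw [← (F x).sum_attach]
  refine Finset.sum_congr rfl fun y _ => ?_
  rw [Algebra.TensorProduct.map_tmul, MvPolynomial.aeval_X, AlgHom.id_apply]

/-- a closed subset missing the fibre over a prime misses it over a finitely generated algebra -/
theorem exists_separating (I : Ideal (B ⊗[R] A)) (p : Ideal A) [p.IsPrime]
    (h : ∀ q : PrimeSpectrum (B ⊗[R] A), I ≤ q.asIdeal →
      q.asIdeal.comap (Algebra.TensorProduct.includeRight (R := R) (A := B) (B := A)).toRingHom ≠ p) :
    ∃ (S : Finset A) (i : B ⊗[R] MvPolynomial ↥S R),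
      Algebra.TensorProduct.map (AlgHom.id R B) (MvPolynomial.aeval fun a : ↥S => (a : A)) i ∈ I ∧
      ∀ q : PrimeSpectrum (B ⊗[R] MvPolynomial ↥S R),
        q.asIdeal.comap (Algebra.TensorProduct.includeRight (R := R) (A := B) (B := MvPolynomial ↥S R)).toRingHom =
          p.comap (MvPolynomial.aeval fun a : ↥S => (a : A)).toRingHom → i ∉ q.asIdeal := by
  classical
  let inr : A →+* B ⊗[R] A := (Algebra.TensorProduct.includeRight (R := R) (A := B) (B := A)).toRingHom
  let M : Submonoid (B ⊗[R] A) := p.primeCompl.map inr.toMonoidHom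
  obtain ⟨_, hJ, a, ha, rfl⟩ : ∃ x, x ∈ I ⊔ p.map inr ∧ x ∈ inr '' (p.primeCompl : Set A) := by
    by_contra hno
    push Not at hno
    obtain ⟨q, hq, hle, hdis⟩ := Ideal.exists_le_prime_disjoint (I := I ⊔ p.map inr) M
      (Set.disjoint_left.2 fun x hx hxM => hno x hx (by
        obtain ⟨a, ha, rfl⟩ := Submonoid.mem_map.1 hxM
        exact ⟨a, ha, rfl⟩))
    refine h ⟨q, hq⟩ (le_sup_left.trans hle) (le_antisymm (fun a ha => ?_) fun a ha => ?_)
    · by_contra hap
      exact Set.disjoint_left.1 hdis ha (Submonoid.mem_map.2 ⟨a, hap, rfl⟩)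
    · exact hle (le_sup_right (b := p.map inr) (Ideal.mem_map_of_mem _ ha))
  obtain ⟨i₀, hi₀, x, hx, hsum⟩ := Submodule.mem_sup.1 hJ
  obtain ⟨n, c, g, hcg⟩ := Submodule.mem_span_set'.1 hx
  have hg : ∀ k, ∃ a' ∈ p, inr a' = (g k).1 := fun k => (g k).2
  choose π hπp hπ using hg
  obtain ⟨S₀, hS₀⟩ := exists_finset_lift (Finset.univ.image c)
  let S : Finset A := insert a (S₀ ∪ Finset.univ.image π)
  let θ : MvPolynomial ↥S R →ₐ[R] A := MvPolynomial.aeval fun a : ↥S => (a : A)
  have hc : ∀ k, ∃ x', Algebra.TensorProduct.map (AlgHom.id R B) θ x' = c k := fun k =>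
    hS₀ S (fun z hz => Finset.mem_insert_of_mem (Finset.mem_union_left _ hz)) _
      (Finset.mem_image_of_mem c (Finset.mem_univ k))
  choose c' hc' using hc
  let xa : MvPolynomial ↥S R := MvPolynomial.X ⟨a, Finset.mem_insert_self _ _⟩
  let xπ : Fin n → MvPolynomial ↥S R := fun k => MvPolynomial.X ⟨π k,
    Finset.mem_insert_of_mem (Finset.mem_union_right _ (Finset.mem_image_of_mem π (Finset.mem_univ k)))⟩
  let inr' : MvPolynomial ↥S R →+* B ⊗[R] MvPolynomial ↥S R :=
    (Algebra.TensorProduct.includeRight (R := R) (A := B) (B := MvPolynomial ↥S R)).toRingHom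
  have hnat : ∀ y, Algebra.TensorProduct.map (AlgHom.id R B) θ (inr' y) = inr (θ y) := fun y => by
    show Algebra.TensorProduct.map (AlgHom.id R B) θ ((1 : B) ⊗ₜ y) = (1 : B) ⊗ₜ θ y
    rw [Algebra.TensorProduct.map_tmul, map_one]
  refine ⟨S, inr' xa - ∑ k, c' k * inr' (xπ k), ?_, fun q hq hiq => ?_⟩
  · show Algebra.TensorProduct.map (AlgHom.id R B) θ _ ∈ I
    have e : Algebra.TensorProduct.map (AlgHom.id R B) θ (inr' xa - ∑ k, c' k * inr' (xπ k)) = inr a - x := by
      rw [map_sub, map_sum, hnat, show θ xa = a from MvPolynomial.aeval_X _ _, ← hcg]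
      congr 1
      refine Finset.sum_congr rfl fun k _ => ?_
      rw [map_mul, hc', hnat, show θ (xπ k) = π k from MvPolynomial.aeval_X _ _, hπ, smul_eq_mul]
    rw [e, ← hsum, add_sub_cancel_right]
    exact hi₀
  · have hq' : ∀ y, θ y ∈ p → inr' y ∈ q.asIdeal := fun y hy => by
      have hy' : y ∈ p.comap θ.toRingHom := hy
      rw [← hq] at hy'
      exact hy'
    have hxa : inr' xa ∈ q.asIdeal := by
      have h1 : ∑ k, c' k * inr' (xπ k) ∈ q.asIdeal := Ideal.sum_mem _ fun k _ => Ideal.mul_mem_left _ _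
        (hq' _ (by rw [show θ (xπ k) = π k from MvPolynomial.aeval_X _ _]; exact hπp k))
      simpa using q.asIdeal.add_mem hiq h1
    have h2 : xa ∈ p.comap θ.toRingHom := by
      rw [← hq]
      exact hxa
    exact ha (by
      have h3 : θ xa ∈ p := h2
      rwa [show θ xa = a from MvPolynomial.aeval_X _ _] at h3)

end Groth.Agent.SpSepClosed
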